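import Mathlib
import Cfsg.Agent.Lib.Lie.HigmanSimsMult.Defs
import Cfsg.Agent.Lib.Lie.HigmanSimsOut.Data

/-!
Definitions of the checks for the outer automorphism group of the Higman–Sims group.
-/

set_option autoImplicit false
set_option maxRecDepth 20000

namespace Cfsg.Agent.Lie.HigmanSimsOut

open Cfsg.Agent.Lie CentralTable HigmanSimsMult

/-- The base. -/
def six : List ℕ := [0, 1, 2, 3, 4, 5]

/-- The permutations of the programs. -/
def outPerms : List ℕ := slpPerm 100 basePerms outOps

/-- A special permutation. -/
def outPerm (j : ℕ) : ℕ := outPerms.getD (outRoots.getD j 0) 0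

/-- A generator. -/
def gX (s : Bool) : ℕ := bif s then certG.g1 else certG.g0

/-- The inverse of a generator. -/
def gXi (s : Bool) : ℕ := bif s then genInv.getD 1 0 else genInv.getD 0 0

/-- A member of the class. -/
def tP (j : ℕ) : ℕ := tPerm.get j

/-- The permutations of the program for the second generator. -/
def genPerms : List ℕ := slpPerm 100 [certG.g0, tP yIdx] genOps

/-- The programs are well formed. -/
def progCheck : Bool :=
  (slpOrdered 3 outOps && (slpOrdered 2 genOps && Nat.blt genRoot (2 + genOps.length))) &&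
    (List.range 8).all fun j => Nat.blt (outRoots.getD j 0) (3 + outOps.length)

/-- Pointwise identities for the special elements. -/
def pointCheck (k : ℕ) : Bool :=
  ((Nat.beq (pget (tP 0) k) (pget (outPerm 0) k) && Nat.beq (pget (tP 0) (pget (tP 0) k)) k) &&
    (Nat.beq (pget (gX false) (pget (gXi false) k)) k && Nat.beq (pget (gX true) (pget (gXi true) k)) k)) &&
  ((Nat.beq (pget (outPerm 1) (pget certG.g0 k))
      (pget certG.g0 (pget certG.g0 (pget certG.g0 (pget certG.g0 (pget (outPerm 1) k))))) &&
    Nat.beq (pget (genPerms.getD genRoot 0) k) (pget certG.g1 k)) &&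
  ([0, 1, 2].all fun w => Nat.beq (pget (outPerm (5 + w)) (pget (witInv.getD w 0) k)) k))

/-- A member of the class is a conjugate of its parent. -/
def tTree (j : ℕ) : Bool :=
  Nat.beq j 0 || (Nat.blt (tPar.get j).1 j && (List.range 100).all fun k =>
    Nat.beq (pget (tP j) (pget (gX (tPar.get j).2) k)) (pget (gX (tPar.get j).2) (pget (tP (tPar.get j).1) k)))

/-- The class is closed. -/
def tClosed (j : ℕ) : Bool :=
  [false, true].all fun s => Nat.blt (tNext.get (Cert.edge j s)) 5775 && six.all fun k =>
    Nat.beq (pget (tP (tNext.get (Cert.edge j s))) k) (pget (gX s) (pget (tP j) (pget (gXi s) k)))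

/-- No member commutes with both generators of the subgroup of order nine. -/
def tFree (j : ℕ) : Bool :=
  six.any fun k => !Nat.beq (pget (tP j) (pget (upPerm 5) k)) (pget (upPerm 5) (pget (tP j) k)) ||
    !Nat.beq (pget (tP j) (pget (upPerm 6) k)) (pget (upPerm 6) (pget (tP j) k))

/-- A relator fails for some point of the base. -/
def relFails (a b : ℕ) : Bool :=
  pairRels.any fun p => six.any fun k => !Nat.beq (Cert.evalP a b (List.replicate p.2 p.1).flatten k) k

/-- The only candidates are the two orbits. -/
def candCheck (j : ℕ) : Bool :=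
  (orbitPos.elem j || relFails certG.g0 (tP j)) && (orbitNeg.elem j || relFails (gXi false) (tP j))

/-- The two orbits and the relators. -/
def orbitCheck : Bool :=
  ((Nat.beq (orbitPos.getD 0 0) yIdx && Nat.beq (orbitNeg.getD 0 0) outIdx) &&
    (Nat.blt yIdx 5775 && Nat.blt outIdx 5775)) &&
  (((List.range 10).all fun i => Nat.beq (orbitPos.getD (i + 1) 0) (tNext.get (Cert.edge (orbitPos.getD i 0) false)) &&
      Nat.beq (orbitNeg.getD (i + 1) 0) (tNext.get (Cert.edge (orbitNeg.getD i 0) false))) &&
  ((Nat.beq orbitPos.length 11 && Nat.beq orbitNeg.length 11) &&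
    pairRels.all fun p => (List.range 100).all fun k =>
      Nat.beq (Cert.evalP certG.g0 (tP yIdx) (List.replicate p.2 p.1).flatten k) k))

/-- A member of the Sylow subgroup is a product along the tree. -/
def pTree (j : ℕ) : Bool :=
  bif Nat.beq j 0 then (List.range 100).all (fun k => Nat.beq (pget (pPerm.get 0) k) k) else
    Nat.blt (pPar.get j).1 j && (Nat.blt (pPar.get j).2 3 && (List.range 100).all fun k =>
      Nat.beq (pget (pPerm.get j) k) (pget (pPerm.get (pPar.get j).1) (pget (outPerm (2 + (pPar.get j).2)) k)))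

/-- The Sylow subgroup is closed. -/
def pClosed (j : ℕ) : Bool :=
  [0, 1, 2].all fun s => Nat.blt (pNext.get (3 * j + s)) 512 && six.all fun k =>
    Nat.beq (pget (pPerm.get (pNext.get (3 * j + s))) k) (pget (pPerm.get j) (pget (outPerm (2 + s)) k))

/-- Signature on the base. -/
def pSig (j : ℕ) : ℕ := six.foldr (fun p m => m * 128 + pget (pPerm.get j) p) 0

/-- A member of the Sylow subgroup commutes with a conjugate of a permutation. -/
def commConj (j w a : ℕ) : Bool :=
  six.all fun k =>
    Nat.beq (pget (pPerm.get j) (pget (outPerm (5 + w)) (pget a (pget (witInv.getD w 0) k))))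
      (pget (outPerm (5 + w)) (pget a (pget (witInv.getD w 0) (pget (pPerm.get j) k))))

/-- Not an involution, in the class, centralising a conjugate of the subgroup of order nine, or conjugate to an
earlier member. -/
def pKindCheck (j : ℕ) : Bool :=
  match (pKind.get j).1 with
  | 0 => six.all (fun k => Nat.beq (pget (pPerm.get j) k) k) ||
      six.any (fun k => !Nat.beq (pget (pPerm.get j) (pget (pPerm.get j) k)) k)
  | 1 => Nat.blt (pKind.get j).2.1 5775 && six.all fun k => Nat.beq (pget (pPerm.get j) k) (pget (tP (pKind.get j).2.1) k)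
  | 2 => Nat.blt (pKind.get j).2.1 3 && (commConj j (pKind.get j).2.1 (upPerm 5) && commConj j (pKind.get j).2.1 (upPerm 6))
  | _ => (Nat.blt (pKind.get j).2.1 512 && (Nat.blt (pKind.get j).2.2 3 &&
      Nat.blt (pRank.get (pKind.get j).2.1) (pRank.get j))) && six.all fun k =>
        Nat.beq (pget (pPerm.get j) (pget (outPerm (2 + (pKind.get j).2.2)) k))
          (pget (outPerm (2 + (pKind.get j).2.2)) (pget (pPerm.get (pKind.get j).2.1) k))

/-- The outer permutation. -/
def sigmaPointCheck (k : ℕ) : Bool :=
  ((Nat.blt (outSigma.getD k 0) 100 && Nat.blt (outSigmaInv.getD k 0) 100) &&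
    (Nat.beq (outSigma.getD (outSigmaInv.getD k 0) 0) k && Nat.beq (outSigmaInv.getD (outSigma.getD k 0) 0) k)) &&
  (Nat.beq (outSigma.getD (pget certG.g0 k) 0) (pget (gXi false) (outSigma.getD k 0)) &&
    Nat.beq (outSigma.getD (pget (tP yIdx) k) 0) (pget (tP outIdx) (outSigma.getD k 0)))

/-- Only the first point is fixed by the stabiliser of the first point. -/
def stabMoves (j : ℕ) : Bool :=
  Nat.beq j 0 || (chain1 ++ chain2 ++ chain3).any fun r => !Nat.beq (pget (chainPerms.getD r 0) j) j

end Cfsg.Agent.Lie.HigmanSimsOut
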