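import Mathlib
import Cfsg.Agent.Lib.Lie.HigmanSimsOut.Defs

/-!
Kernel checks for the outer automorphism group of the Higman–Sims group: candidates.
-/

set_option autoImplicit false
set_option maxRecDepth 100000
set_option maxHeartbeats 0
set_option Elab.async false

namespace Cfsg.Agent.Lie.HigmanSimsOut

open Cfsg.Agent.Lie CentralTable

theorem t_cand0 : (List.range 289).all (fun k => !(Nat.blt (0 + k) 5775) || candCheck (0 + k)) = true := by decide +kernel

theorem t_cand1 : (List.range 289).all (fun k => !(Nat.blt (289 + k) 5775) || candCheck (289 + k)) = true := by decide +kernel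

theorem t_cand2 : (List.range 289).all (fun k => !(Nat.blt (578 + k) 5775) || candCheck (578 + k)) = true := by decide +kernel

theorem t_cand3 : (List.range 289).all (fun k => !(Nat.blt (867 + k) 5775) || candCheck (867 + k)) = true := by decide +kernel

theorem t_cand4 : (List.range 289).all (fun k => !(Nat.blt (1156 + k) 5775) || candCheck (1156 + k)) = true := by decide +kernel

theorem t_cand5 : (List.range 289).all (fun k => !(Nat.blt (1445 + k) 5775) || candCheck (1445 + k)) = true := by decide +kernel

theorem t_cand6 : (List.range 289).all (fun k => !(Nat.blt (1734 + k) 5775) || candCheck (1734 + k)) = true := by decide +kernel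

theorem t_cand7 : (List.range 289).all (fun k => !(Nat.blt (2023 + k) 5775) || candCheck (2023 + k)) = true := by decide +kernel

theorem t_cand8 : (List.range 289).all (fun k => !(Nat.blt (2312 + k) 5775) || candCheck (2312 + k)) = true := by decide +kernel

theorem t_cand9 : (List.range 289).all (fun k => !(Nat.blt (2601 + k) 5775) || candCheck (2601 + k)) = true := by decide +kernel

theorem t_cand10 : (List.range 289).all (fun k => !(Nat.blt (2890 + k) 5775) || candCheck (2890 + k)) = true := by decide +kernel

theorem t_cand11 : (List.range 289).all (fun k => !(Nat.blt (3179 + k) 5775) || candCheck (3179 + k)) = true := by decide +kernel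

theorem t_cand12 : (List.range 289).all (fun k => !(Nat.blt (3468 + k) 5775) || candCheck (3468 + k)) = true := by decide +kernel

theorem t_cand13 : (List.range 289).all (fun k => !(Nat.blt (3757 + k) 5775) || candCheck (3757 + k)) = true := by decide +kernel

theorem t_cand14 : (List.range 289).all (fun k => !(Nat.blt (4046 + k) 5775) || candCheck (4046 + k)) = true := by decide +kernel

theorem t_cand15 : (List.range 289).all (fun k => !(Nat.blt (4335 + k) 5775) || candCheck (4335 + k)) = true := by decide +kernel

theorem t_cand16 : (List.range 289).all (fun k => !(Nat.blt (4624 + k) 5775) || candCheck (4624 + k)) = true := by decide +kernel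

theorem t_cand17 : (List.range 289).all (fun k => !(Nat.blt (4913 + k) 5775) || candCheck (4913 + k)) = true := by decide +kernel

theorem t_cand18 : (List.range 289).all (fun k => !(Nat.blt (5202 + k) 5775) || candCheck (5202 + k)) = true := by decide +kernel

theorem t_cand19 : (List.range 289).all (fun k => !(Nat.blt (5491 + k) 5775) || candCheck (5491 + k)) = true := by decide +kernel

theorem t_cand : (List.range 5775).all candCheck = true := by
  rw [List.all_eq_true]
  intro i hi
  rw [List.mem_range] at hi
  have key : ∀ c, (List.range 289).all (fun k => !(Nat.blt (c + k) 5775) || candCheck (c + k)) = true → c ≤ i → i < c + 289 →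
      candCheck i = true := fun c h h1 h2 => by
    have := List.all_eq_true.1 h (i - c) (List.mem_range.2 (by omega))
    have hlt : Nat.blt i 5775 = true := by rw [Nat.blt_eq]; exact hi
    rw [Nat.add_sub_cancel' h1, hlt, Bool.not_true, Bool.false_or] at this
    exact this
  rcases Nat.lt_or_ge i 289 with h0 | h0
  · exact key 0 t_cand0 (by omega) (by omega)
  rcases Nat.lt_or_ge i 578 with h1 | h1
  · exact key 289 t_cand1 (by omega) (by omega)
  rcases Nat.lt_or_ge i 867 with h2 | h2
  · exact key 578 t_cand2 (by omega) (by omega)
  rcases Nat.lt_or_ge i 1156 with h3 | h3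
  · exact key 867 t_cand3 (by omega) (by omega)
  rcases Nat.lt_or_ge i 1445 with h4 | h4
  · exact key 1156 t_cand4 (by omega) (by omega)
  rcases Nat.lt_or_ge i 1734 with h5 | h5
  · exact key 1445 t_cand5 (by omega) (by omega)
  rcases Nat.lt_or_ge i 2023 with h6 | h6
  · exact key 1734 t_cand6 (by omega) (by omega)
  rcases Nat.lt_or_ge i 2312 with h7 | h7
  · exact key 2023 t_cand7 (by omega) (by omega)
  rcases Nat.lt_or_ge i 2601 with h8 | h8
  · exact key 2312 t_cand8 (by omega) (by omega)
  rcases Nat.lt_or_ge i 2890 with h9 | h9
  · exact key 2601 t_cand9 (by omega) (by omega)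
  rcases Nat.lt_or_ge i 3179 with h10 | h10
  · exact key 2890 t_cand10 (by omega) (by omega)
  rcases Nat.lt_or_ge i 3468 with h11 | h11
  · exact key 3179 t_cand11 (by omega) (by omega)
  rcases Nat.lt_or_ge i 3757 with h12 | h12
  · exact key 3468 t_cand12 (by omega) (by omega)
  rcases Nat.lt_or_ge i 4046 with h13 | h13
  · exact key 3757 t_cand13 (by omega) (by omega)
  rcases Nat.lt_or_ge i 4335 with h14 | h14
  · exact key 4046 t_cand14 (by omega) (by omega)
  rcases Nat.lt_or_ge i 4624 with h15 | h15
  · exact key 4335 t_cand15 (by omega) (by omega)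
  rcases Nat.lt_or_ge i 4913 with h16 | h16
  · exact key 4624 t_cand16 (by omega) (by omega)
  rcases Nat.lt_or_ge i 5202 with h17 | h17
  · exact key 4913 t_cand17 (by omega) (by omega)
  rcases Nat.lt_or_ge i 5491 with h18 | h18
  · exact key 5202 t_cand18 (by omega) (by omega)
  exact key 5491 t_cand19 (by omega) (by omega)

end Cfsg.Agent.Lie.HigmanSimsOut
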