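import Mathlib
import Cfsg.Agent.Lib.Lie.HigmanSimsOut.Defs

/-!
Kernel checks for the outer automorphism group of the Higman–Sims group: closure of the class.
-/

set_option autoImplicit false
set_option maxRecDepth 100000
set_option maxHeartbeats 0
set_option Elab.async false

namespace Cfsg.Agent.Lie.HigmanSimsOut

open Cfsg.Agent.Lie CentralTable

theorem t_closed0 : (List.range 722).all (fun k => !(Nat.blt (0 + k) 5775) || tClosed (0 + k)) = true := by decide +kernel

theorem t_closed1 : (List.range 722).all (fun k => !(Nat.blt (722 + k) 5775) || tClosed (722 + k)) = true := by decide +kernel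

theorem t_closed2 : (List.range 722).all (fun k => !(Nat.blt (1444 + k) 5775) || tClosed (1444 + k)) = true := by decide +kernel

theorem t_closed3 : (List.range 722).all (fun k => !(Nat.blt (2166 + k) 5775) || tClosed (2166 + k)) = true := by decide +kernel

theorem t_closed4 : (List.range 722).all (fun k => !(Nat.blt (2888 + k) 5775) || tClosed (2888 + k)) = true := by decide +kernel

theorem t_closed5 : (List.range 722).all (fun k => !(Nat.blt (3610 + k) 5775) || tClosed (3610 + k)) = true := by decide +kernel

theorem t_closed6 : (List.range 722).all (fun k => !(Nat.blt (4332 + k) 5775) || tClosed (4332 + k)) = true := by decide +kernel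

theorem t_closed7 : (List.range 722).all (fun k => !(Nat.blt (5054 + k) 5775) || tClosed (5054 + k)) = true := by decide +kernel

theorem t_closed : (List.range 5775).all tClosed = true := by
  rw [List.all_eq_true]
  intro i hi
  rw [List.mem_range] at hi
  have key : ∀ c, (List.range 722).all (fun k => !(Nat.blt (c + k) 5775) || tClosed (c + k)) = true → c ≤ i → i < c + 722 →
      tClosed i = true := fun c h h1 h2 => by
    have := List.all_eq_true.1 h (i - c) (List.mem_range.2 (by omega))
    have hlt : Nat.blt i 5775 = true := by rw [Nat.blt_eq]; exact hi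
    rw [Nat.add_sub_cancel' h1, hlt, Bool.not_true, Bool.false_or] at this
    exact this
  rcases Nat.lt_or_ge i 722 with h0 | h0
  · exact key 0 t_closed0 (by omega) (by omega)
  rcases Nat.lt_or_ge i 1444 with h1 | h1
  · exact key 722 t_closed1 (by omega) (by omega)
  rcases Nat.lt_or_ge i 2166 with h2 | h2
  · exact key 1444 t_closed2 (by omega) (by omega)
  rcases Nat.lt_or_ge i 2888 with h3 | h3
  · exact key 2166 t_closed3 (by omega) (by omega)
  rcases Nat.lt_or_ge i 3610 with h4 | h4
  · exact key 2888 t_closed4 (by omega) (by omega)
  rcases Nat.lt_or_ge i 4332 with h5 | h5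
  · exact key 3610 t_closed5 (by omega) (by omega)
  rcases Nat.lt_or_ge i 5054 with h6 | h6
  · exact key 4332 t_closed6 (by omega) (by omega)
  exact key 5054 t_closed7 (by omega) (by omega)

theorem t_free0 : (List.range 963).all (fun k => !(Nat.blt (0 + k) 5775) || tFree (0 + k)) = true := by decide +kernel

theorem t_free1 : (List.range 963).all (fun k => !(Nat.blt (963 + k) 5775) || tFree (963 + k)) = true := by decide +kernel

theorem t_free2 : (List.range 963).all (fun k => !(Nat.blt (1926 + k) 5775) || tFree (1926 + k)) = true := by decide +kernel

theorem t_free3 : (List.range 963).all (fun k => !(Nat.blt (2889 + k) 5775) || tFree (2889 + k)) = true := by decide +kernel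

theorem t_free4 : (List.range 963).all (fun k => !(Nat.blt (3852 + k) 5775) || tFree (3852 + k)) = true := by decide +kernel

theorem t_free5 : (List.range 963).all (fun k => !(Nat.blt (4815 + k) 5775) || tFree (4815 + k)) = true := by decide +kernel

theorem t_free : (List.range 5775).all tFree = true := by
  rw [List.all_eq_true]
  intro i hi
  rw [List.mem_range] at hi
  have key : ∀ c, (List.range 963).all (fun k => !(Nat.blt (c + k) 5775) || tFree (c + k)) = true → c ≤ i → i < c + 963 →
      tFree i = true := fun c h h1 h2 => by
    have := List.all_eq_true.1 h (i - c) (List.mem_range.2 (by omega))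
    have hlt : Nat.blt i 5775 = true := by rw [Nat.blt_eq]; exact hi
    rw [Nat.add_sub_cancel' h1, hlt, Bool.not_true, Bool.false_or] at this
    exact this
  rcases Nat.lt_or_ge i 963 with h0 | h0
  · exact key 0 t_free0 (by omega) (by omega)
  rcases Nat.lt_or_ge i 1926 with h1 | h1
  · exact key 963 t_free1 (by omega) (by omega)
  rcases Nat.lt_or_ge i 2889 with h2 | h2
  · exact key 1926 t_free2 (by omega) (by omega)
  rcases Nat.lt_or_ge i 3852 with h3 | h3
  · exact key 2889 t_free3 (by omega) (by omega)
  rcases Nat.lt_or_ge i 4815 with h4 | h4
  · exact key 3852 t_free4 (by omega) (by omega)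
  exact key 4815 t_free5 (by omega) (by omega)

end Cfsg.Agent.Lie.HigmanSimsOut
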