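import Mathlib
import Cfsg.Agent.Lib.Lie.HigmanSimsOut.Defs

/-!
Kernel checks for the outer automorphism group of the Higman–Sims group: programs and the Sylow subgroup.
-/

set_option autoImplicit false
set_option maxRecDepth 100000
set_option maxHeartbeats 0
set_option Elab.async false

namespace Cfsg.Agent.Lie.HigmanSimsOut

open Cfsg.Agent.Lie CentralTable

theorem prog_ok : progCheck = true := by decide +kernel

theorem point_ok : (List.range 100).all pointCheck = true := by decide +kernel

theorem orbit_ok : orbitCheck = true := by decide +kernel

theorem p_tree : (List.range 512).all pTree = true := by decide +kernel

theorem p_closed : (List.range 512).all pClosed = true := by decide +kernel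

theorem p_distinct : ((List.range 512).map pSig).Nodup := by decide +kernel

theorem p_kind : (List.range 512).all pKindCheck = true := by decide +kernel

theorem sigma_point_ok : (List.range 100).all sigmaPointCheck = true := by decide +kernel

theorem stab_moves : (List.range 100).all stabMoves = true := by decide +kernel

end Cfsg.Agent.Lie.HigmanSimsOut
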