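import Mathlib
import Cfsg.Agent.Lib.Lie.HigmanSimsOut.Defs

/-!
Kernel checks for the outer automorphism group of the Higman–Sims group: conjugation tree of the class.
-/

set_option autoImplicit false
set_option maxRecDepth 100000
set_option maxHeartbeats 0
set_option Elab.async false

namespace Cfsg.Agent.Lie.HigmanSimsOut

open Cfsg.Agent.Lie CentralTable

theorem t_tree0 : (List.range 385).all (fun k => !(Nat.blt (0 + k) 5775) || tTree (0 + k)) = true := by decide +kernel

theorem t_tree1 : (List.range 385).all (fun k => !(Nat.blt (385 + k) 5775) || tTree (385 + k)) = true := by decide +kernel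

theorem t_tree2 : (List.range 385).all (fun k => !(Nat.blt (770 + k) 5775) || tTree (770 + k)) = true := by decide +kernel

theorem t_tree3 : (List.range 385).all (fun k => !(Nat.blt (1155 + k) 5775) || tTree (1155 + k)) = true := by decide +kernel

theorem t_tree4 : (List.range 385).all (fun k => !(Nat.blt (1540 + k) 5775) || tTree (1540 + k)) = true := by decide +kernel

theorem t_tree5 : (List.range 385).all (fun k => !(Nat.blt (1925 + k) 5775) || tTree (1925 + k)) = true := by decide +kernel

theorem t_tree6 : (List.range 385).all (fun k => !(Nat.blt (2310 + k) 5775) || tTree (2310 + k)) = true := by decide +kernel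

theorem t_tree7 : (List.range 385).all (fun k => !(Nat.blt (2695 + k) 5775) || tTree (2695 + k)) = true := by decide +kernel

theorem t_tree8 : (List.range 385).all (fun k => !(Nat.blt (3080 + k) 5775) || tTree (3080 + k)) = true := by decide +kernel

theorem t_tree9 : (List.range 385).all (fun k => !(Nat.blt (3465 + k) 5775) || tTree (3465 + k)) = true := by decide +kernel

theorem t_tree10 : (List.range 385).all (fun k => !(Nat.blt (3850 + k) 5775) || tTree (3850 + k)) = true := by decide +kernel

theorem t_tree11 : (List.range 385).all (fun k => !(Nat.blt (4235 + k) 5775) || tTree (4235 + k)) = true := by decide +kernel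

theorem t_tree12 : (List.range 385).all (fun k => !(Nat.blt (4620 + k) 5775) || tTree (4620 + k)) = true := by decide +kernel

theorem t_tree13 : (List.range 385).all (fun k => !(Nat.blt (5005 + k) 5775) || tTree (5005 + k)) = true := by decide +kernel

theorem t_tree14 : (List.range 385).all (fun k => !(Nat.blt (5390 + k) 5775) || tTree (5390 + k)) = true := by decide +kernel

theorem t_tree : (List.range 5775).all tTree = true := by
  rw [List.all_eq_true]
  intro i hi
  rw [List.mem_range] at hi
  have key : ∀ c, (List.range 385).all (fun k => !(Nat.blt (c + k) 5775) || tTree (c + k)) = true → c ≤ i → i < c + 385 →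
      tTree i = true := fun c h h1 h2 => by
    have := List.all_eq_true.1 h (i - c) (List.mem_range.2 (by omega))
    have hlt : Nat.blt i 5775 = true := by rw [Nat.blt_eq]; exact hi
    rw [Nat.add_sub_cancel' h1, hlt, Bool.not_true, Bool.false_or] at this
    exact this
  rcases Nat.lt_or_ge i 385 with h0 | h0
  · exact key 0 t_tree0 (by omega) (by omega)
  rcases Nat.lt_or_ge i 770 with h1 | h1
  · exact key 385 t_tree1 (by omega) (by omega)
  rcases Nat.lt_or_ge i 1155 with h2 | h2
  · exact key 770 t_tree2 (by omega) (by omega)
  rcases Nat.lt_or_ge i 1540 with h3 | h3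
  · exact key 1155 t_tree3 (by omega) (by omega)
  rcases Nat.lt_or_ge i 1925 with h4 | h4
  · exact key 1540 t_tree4 (by omega) (by omega)
  rcases Nat.lt_or_ge i 2310 with h5 | h5
  · exact key 1925 t_tree5 (by omega) (by omega)
  rcases Nat.lt_or_ge i 2695 with h6 | h6
  · exact key 2310 t_tree6 (by omega) (by omega)
  rcases Nat.lt_or_ge i 3080 with h7 | h7
  · exact key 2695 t_tree7 (by omega) (by omega)
  rcases Nat.lt_or_ge i 3465 with h8 | h8
  · exact key 3080 t_tree8 (by omega) (by omega)
  rcases Nat.lt_or_ge i 3850 with h9 | h9
  · exact key 3465 t_tree9 (by omega) (by omega)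
  rcases Nat.lt_or_ge i 4235 with h10 | h10
  · exact key 3850 t_tree10 (by omega) (by omega)
  rcases Nat.lt_or_ge i 4620 with h11 | h11
  · exact key 4235 t_tree11 (by omega) (by omega)
  rcases Nat.lt_or_ge i 5005 with h12 | h12
  · exact key 4620 t_tree12 (by omega) (by omega)
  rcases Nat.lt_or_ge i 5390 with h13 | h13
  · exact key 5005 t_tree13 (by omega) (by omega)
  exact key 5390 t_tree14 (by omega) (by omega)

end Cfsg.Agent.Lie.HigmanSimsOut
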