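import Mathlib
import Cfsg.Prelude.Def_KGroupFacts
import Cfsg.Agent.Lib.Lie.HigmanSimsMult.Main
import Cfsg.Agent.Lib.Lie.HigmanSimsOut.MiscChecks
import Cfsg.Agent.Lib.Lie.HigmanSimsOut.TreeChecks
import Cfsg.Agent.Lib.Lie.HigmanSimsOut.ClassChecks
import Cfsg.Agent.Lib.Lie.HigmanSimsOut.CandChecks

/-!
The outer automorphism group of the Higman–Sims group has order two: the small class of involutions is invariant
under every automorphism, and a pair of generators has only two images up to inner automorphisms.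
-/

set_option autoImplicit false
set_option maxRecDepth 100000
set_option linter.style.haveILetI false

namespace Cfsg.Agent.Lie.HigmanSimsOut

open Cfsg Cfsg.Agent.Lie CentralTable HigmanSimsMult

attribute [local irreducible] CentralTable.pget CentralTable.Cert.evalP CentralTable.slpPerm CentralTable.slpElt

theorem prog_facts : slpOrdered 3 outOps = true ∧ slpOrdered 2 genOps = true ∧ genRoot < 2 + genOps.length ∧
    ∀ j < 8, outRoots.getD j 0 < 3 + outOps.length := by
  have h := prog_ok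
  simp only [progCheck, Bool.and_eq_true, List.all_eq_true, List.mem_range, Nat.blt_eq] at h
  exact ⟨h.1.1, h.1.2.1, h.1.2.2, h.2⟩

/-- A special element. -/
noncomputable def oe (j : ℕ) : HG := (slpElt base outOps).getD (outRoots.getD j 0) 1

theorem rep_oe {j : ℕ} (hj : j < 8) : Rep perm100 (oe j) (outPerm j) := by
  refine slp_rep perm100 outOps base basePerms ?_ (fun i hi => base_spec.2 i (base_spec.1 ▸ hi)) ?_ _ ?_
  · rw [base_spec.1]; rfl
  · rw [base_spec.1]; exact slpOrdered_spec _ _ prog_facts.1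
  · rw [base_spec.1]; exact prog_facts.2.2.2 j hj

theorem oe_apply {j : ℕ} (hj : j < 8) (k : Fin 100) : ((perm100 (oe j) k : Fin 100) : ℕ) = pget (outPerm j) k :=
  rep_oe hj k

theorem el_apply {j : ℕ} (hj : j < 8) (k : Fin 100) : ((perm100 (el j) k : Fin 100) : ℕ) = pget (upPerm j) k :=
  rep_el hj k

theorem rep_gX (s : Bool) : Rep perm100 (xG s) (gX s) := rep_xG s

theorem point_facts (k : Fin 100) :
    ((pget (tP 0) k = pget (outPerm 0) k ∧ pget (tP 0) (pget (tP 0) k) = k) ∧
      (pget (gX false) (pget (gXi false) k) = k ∧ pget (gX true) (pget (gXi true) k) = k)) ∧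
    ((pget (outPerm 1) (pget certG.g0 k) =
        pget certG.g0 (pget certG.g0 (pget certG.g0 (pget certG.g0 (pget (outPerm 1) k)))) ∧
      pget (genPerms.getD genRoot 0) k = pget certG.g1 k) ∧
    ∀ w ∈ [0, 1, 2], pget (outPerm (5 + w)) (pget (witInv.getD w 0) k) = k) := by
  have h := List.all_eq_true.1 point_ok k (List.mem_range.2 k.2)
  simp only [pointCheck, Bool.and_eq_true, Nat.beq_eq, List.all_eq_true] at h
  exact h

theorem rep_inverse {g : HG} {p q : ℕ} (hg : Rep perm100 g p) (h : ∀ k : Fin 100, pget p (pget q k) = k)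
    (hq : ∀ k : Fin 100, pget q k < 100) : Rep perm100 g⁻¹ q := fun k => by
  have e : perm100 g ⟨pget q k, hq k⟩ = k := Fin.ext ((hg _).trans (h k))
  have e2 : perm100 g⁻¹ k = ⟨pget q k, hq k⟩ := by
    rw [map_inv]
    exact Equiv.Perm.inv_eq_iff_eq.2 e.symm
  rw [e2]

theorem bounds_ok : (List.range 100).all (fun k => (Nat.blt (pget (gXi false) k) 100 && Nat.blt (pget (gXi true) k) 100) &&
    [0, 1, 2].all fun w => Nat.blt (pget (witInv.getD w 0) k) 100) = true := by decide +kernel

theorem rep_gXi (s : Bool) : Rep perm100 (xG s)⁻¹ (gXi s) := by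
  refine rep_inverse (rep_gX s) (fun k => ?_) (fun k => ?_)
  · cases s
    exacts [(point_facts k).1.2.1, (point_facts k).1.2.2]
  · have h := List.all_eq_true.1 bounds_ok k (List.mem_range.2 k.2)
    simp only [Bool.and_eq_true, Nat.blt_eq] at h
    cases s
    exacts [h.1.1, h.1.2]

theorem rep_witInv {w : ℕ} (hw : w < 3) : Rep perm100 (oe (5 + w))⁻¹ (witInv.getD w 0) := by
  have hm : w ∈ [0, 1, 2] := by simp; omega
  refine rep_inverse (rep_oe (by omega)) (fun k => (point_facts k).2.2 w hm) (fun k => ?_)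
  have h := List.all_eq_true.1 bounds_ok k (List.mem_range.2 k.2)
  simp only [Bool.and_eq_true, List.all_eq_true, Nat.blt_eq] at h
  exact h.2 w hm

theorem rep_mul_apply (g h : HG) (k : Fin 100) : perm100 (g * h) k = perm100 g (perm100 h k) := by
  rw [map_mul, Equiv.Perm.mul_apply]

/-- An element is determined by six images. -/
theorem eq_of_six {g h : HG} (e : ∀ k : Fin 100, (k : ℕ) ∈ six → (perm100 g k : ℕ) = perm100 h k) : g = h := by
  have he : fixing [] = Subgroup.closure (Set.range HigmanSimsMult.xG) := by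
    ext z
    exact ⟨fun hz => hz.1, fun hz => ⟨hz, fun p hp => absurd hp List.not_mem_nil⟩⟩
  have h0 := level_le (b := (⟨0, by norm_num⟩ : Fin 100)) level0_ok
  have h1 := level_le (b := (⟨1, by norm_num⟩ : Fin 100)) level1_ok
  have h2 := level_le (b := (⟨2, by norm_num⟩ : Fin 100)) level2_ok
  have h3 := level_le (b := (⟨3, by norm_num⟩ : Fin 100)) level3_ok
  have h4 := level_le (b := (⟨4, by norm_num⟩ : Fin 100)) level4_ok
  have h5 := level_le (b := (⟨5, by norm_num⟩ : Fin 100)) level5_ok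
  have hle : Nat.card (Subgroup.closure (Set.range HigmanSimsMult.xG)) ≤ Nat.card HG := Subgroup.card_le_card_group _
  simp only [List.nil_append, List.cons_append, he, show chain0.length = 100 from rfl,
    show chain1.length = 22 from rfl, show chain2.length = 21 from rfl, show chain3.length = 16 from rfl,
    show chain4.length = 10 from rfl, show chain5.length = 6 from rfl] at h0 h1 h2 h3 h4 h5
  rw [card_HG] at hle
  have hc : Nat.card (fixing [0, 1, 2, 3, 4, 5]) ≤ 1 := by omega
  haveI := (Finite.card_le_one_iff_subsingleton.1 hc)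
  have hm : h⁻¹ * g ∈ fixing [0, 1, 2, 3, 4, 5] := ⟨gen_xG ▸ Subgroup.mem_top _, fun p hp => by
    rw [rep_mul_apply, show perm100 g p = perm100 h p from Fin.ext (e p hp), ← rep_mul_apply, inv_mul_cancel, map_one]
    rfl⟩
  have := congrArg Subtype.val (Subsingleton.elim (⟨_, hm⟩ : fixing [0, 1, 2, 3, 4, 5]) 1)
  exact inv_mul_eq_one.1 this |>.symm

/-! ### the class -/

theorem exists_t : ∀ j < 5775, ∃ t : HG, Rep perm100 t (tP j) ∧ ∃ g, t = g * oe 0 * g⁻¹ := by
  intro j
  induction j using Nat.strong_induction_on with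
  | _ j ih =>
    intro hj
    rcases Nat.eq_zero_or_pos j with rfl | h0
    · exact ⟨oe 0, fun k => (rep_oe (by norm_num) k).trans (point_facts k).1.1.1.symm, 1, by simp⟩
    have h := List.all_eq_true.1 t_tree j (List.mem_range.2 hj)
    simp only [tTree, Bool.or_eq_true, Nat.beq_eq, Bool.and_eq_true, Nat.blt_eq, List.all_eq_true, List.mem_range] at h
    obtain ⟨hlt, he⟩ := h.resolve_left (by omega)
    obtain ⟨t, ht, g, rfl⟩ := ih _ hlt (hlt.trans hj)
    generalize (tPar.get j).2 = s at he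
    refine ⟨xG s * (g * oe 0 * g⁻¹) * (xG s)⁻¹, fun k => ?_, xG s * g, by group⟩
    obtain ⟨k', rfl⟩ := (perm100 (xG s)).surjective k
    rw [← rep_mul_apply, inv_mul_cancel_right, rep_mul_apply, rep_gX s, ht, rep_gX s k']
    exact (he k' k'.2).symm

/-- A member of the class. -/
noncomputable def tEl (j : Fin 5775) : HG := (exists_t j j.2).choose

theorem rep_t (j : Fin 5775) : Rep perm100 (tEl j) (tP j) := (exists_t j j.2).choose_spec.1

theorem t_apply (j : Fin 5775) (k : Fin 100) : ((perm100 (tEl j) k : Fin 100) : ℕ) = pget (tP j) k := rep_t j k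

theorem oe_zero_sq : oe 0 * oe 0 = 1 := eq_of_rep perm100_injective fun k => by
  rw [rep_mul_apply, map_one]
  have e1 : ((perm100 (oe 0) k : Fin 100) : ℕ) = pget (tP 0) k :=
    (oe_apply (by norm_num) k).trans (point_facts k).1.1.1.symm
  rw [oe_apply (by norm_num), ← (point_facts (perm100 (oe 0) k)).1.1.1, e1]
  exact (point_facts k).1.1.2

theorem t_sq (j : Fin 5775) : tEl j * tEl j = 1 := by
  obtain ⟨g, hg⟩ := (exists_t j j.2).choose_spec.2
  rw [show tEl j = g * oe 0 * g⁻¹ from hg, show g * oe 0 * g⁻¹ * (g * oe 0 * g⁻¹) = g * (oe 0 * oe 0) * g⁻¹ by group,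
    oe_zero_sq, mul_one, mul_inv_cancel]

theorem t_conj (s : Bool) (j : Fin 5775) :
    ∃ k : Fin 5775, (k : ℕ) = tNext.get (Cert.edge j s) ∧ xG s * tEl j * (xG s)⁻¹ = tEl k := by
  have h := List.all_eq_true.1 t_closed j (List.mem_range.2 j.2)
  simp only [tClosed, List.all_cons, List.all_nil, Bool.and_true, Bool.and_eq_true, Nat.blt_eq, List.all_eq_true,
    Nat.beq_eq] at h
  obtain ⟨hlt, he⟩ : tNext.get (Cert.edge j s) < 5775 ∧ ∀ k ∈ six,
      pget (tP (tNext.get (Cert.edge j s))) k = pget (gX s) (pget (tP j) (pget (gXi s) k)) := by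
    cases s
    exacts [h.1, h.2]
  refine ⟨⟨_, hlt⟩, rfl, eq_of_six fun k hk => ?_⟩
  rw [rep_mul_apply, rep_mul_apply, rep_gX s, rep_t j, rep_gXi s k, rep_t]
  exact (he k hk).symm

theorem t_conj_all (g : HG) (j : Fin 5775) : ∃ k, g * tEl j * g⁻¹ = tEl k := by
  have hg : g ∈ Submonoid.closure (Set.range HigmanSimsMult.xG) := by
    have : g ∈ (Subgroup.closure (Set.range HigmanSimsMult.xG)).toSubmonoid := gen_xG.ge (Subgroup.mem_top g)
    rwa [Subgroup.closure_toSubmonoid_of_finite] at this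
  revert j
  induction hg using Submonoid.closure_induction with
  | mem x hx =>
    obtain ⟨s, rfl⟩ := hx
    intro j
    obtain ⟨k, -, e⟩ := t_conj s j
    exact ⟨k, e⟩
  | one => exact fun j => ⟨j, by simp⟩
  | mul a b _ _ iha ihb =>
    intro j
    obtain ⟨k, hk⟩ := ihb j
    obtain ⟨l, hl⟩ := iha k
    exact ⟨l, by rw [← hl, ← hk]; group⟩

/-- Centralising a conjugate of the subgroup of order nine. -/
def CentNine (i : HG) : Prop := ∃ h : HG, Commute i (h * el 5 * h⁻¹) ∧ Commute i (h * el 6 * h⁻¹)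

theorem centNine_conj {i : HG} (g : HG) (h : CentNine i) : CentNine (g * i * g⁻¹) := by
  obtain ⟨a, h5, h6⟩ := h
  refine ⟨g * a, ?_, ?_⟩
  · rw [show g * a * el 5 * (g * a)⁻¹ = g * (a * el 5 * a⁻¹) * g⁻¹ by group]
    exact (Commute.conj_iff g).2 h5
  · rw [show g * a * el 6 * (g * a)⁻¹ = g * (a * el 6 * a⁻¹) * g⁻¹ by group]
    exact (Commute.conj_iff g).2 h6

theorem t_not_commute (j : Fin 5775) (h5 : Commute (tEl j) (el 5)) (h6 : Commute (tEl j) (el 6)) : False := by
  have h := List.all_eq_true.1 t_free j (List.mem_range.2 j.2)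
  simp only [tFree, List.any_eq_true, Bool.or_eq_true, Bool.not_eq_true', ← Bool.not_eq_true, Nat.beq_eq] at h
  obtain ⟨k, hk, h⟩ := h
  have hk' : k < 100 := by simp [six] at hk; omega
  have e5 := congrArg Fin.val (Equiv.congr_fun (congrArg perm100 h5.eq) ⟨k, hk'⟩)
  have e6 := congrArg Fin.val (Equiv.congr_fun (congrArg perm100 h6.eq) ⟨k, hk'⟩)
  simp only [map_mul, Equiv.Perm.mul_apply] at e5 e6
  rw [t_apply, el_apply (by norm_num), el_apply (by norm_num), t_apply] at e5 e6
  rcases h with h | h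
  exacts [h e5, h e6]

theorem t_not_centNine (j : Fin 5775) : ¬ CentNine (tEl j) := by
  rintro ⟨h, h5, h6⟩
  obtain ⟨k, hk⟩ := t_conj_all h⁻¹ j
  have c : ∀ a : HG, Commute (tEl j) (h * a * h⁻¹) → Commute (tEl k) a := fun a hc => by
    have := (Commute.conj_iff h⁻¹).2 hc
    rwa [hk, show h⁻¹ * (h * a * h⁻¹) * h⁻¹⁻¹ = a by group] at this
  exact t_not_commute k (c _ h5) (c _ h6)

theorem t_ne_one (j : Fin 5775) : tEl j ≠ 1 := fun e =>
  t_not_centNine j ⟨1, by rw [e]; exact Commute.one_left _, by rw [e]; exact Commute.one_left _⟩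

/-! ### the Sylow subgroup for the prime two -/

/-- Generators of the Sylow subgroup. -/
noncomputable def pg (s : Fin 3) : HG := oe (2 + s)

theorem exists_p : ∀ j < 512, ∃ p : HG, Rep perm100 p (pPerm.get j) ∧ p ∈ Subgroup.closure (Set.range pg) := by
  intro j
  induction j using Nat.strong_induction_on with
  | _ j ih =>
    intro hj
    have h := List.all_eq_true.1 p_tree j (List.mem_range.2 hj)
    rcases Nat.eq_zero_or_pos j with rfl | h0
    · simp only [pTree, show Nat.beq 0 0 = true from rfl, cond_true, List.all_eq_true, List.mem_range, Nat.beq_eq] at h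
      exact ⟨1, fun k => by rw [map_one]; exact (h k k.2).symm, one_mem _⟩
    rw [pTree, show Nat.beq j 0 = false by rw [← Bool.not_eq_true, Nat.beq_eq]; omega] at h
    simp only [cond_false, Bool.and_eq_true, Nat.blt_eq, List.all_eq_true, List.mem_range, Nat.beq_eq] at h
    obtain ⟨hlt, hs, he⟩ := h
    obtain ⟨p, hp, hmem⟩ := ih _ hlt (hlt.trans hj)
    refine ⟨p * oe (2 + (pPar.get j).2), fun k => ?_, mul_mem hmem (Subgroup.subset_closure ⟨⟨_, hs⟩, rfl⟩)⟩
    rw [rep_mul_apply, hp, oe_apply (by omega)]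
    exact (he k k.2).symm

/-- A member of the Sylow subgroup. -/
noncomputable def pEl (j : Fin 512) : HG := (exists_p j j.2).choose

theorem rep_p (j : Fin 512) : Rep perm100 (pEl j) (pPerm.get j) := (exists_p j j.2).choose_spec.1

theorem p_apply (j : Fin 512) (k : Fin 100) : ((perm100 (pEl j) k : Fin 100) : ℕ) = pget (pPerm.get j) k := rep_p j k

/-- The Sylow subgroup. -/
noncomputable def subP : Subgroup HG := Subgroup.closure (Set.range pg)

theorem subP_eq : (subP : Set HG) = Set.range pEl := by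
  refine Set.Subset.antisymm (fun g hg => ?_) ?_
  · have hg' : g ∈ Submonoid.closure (Set.range pg) := by
      have : g ∈ (Subgroup.closure (Set.range pg)).toSubmonoid := hg
      rwa [Subgroup.closure_toSubmonoid_of_finite] at this
    clear hg
    induction hg' using Submonoid.closure_induction_right with
    | one =>
      refine ⟨⟨0, by norm_num⟩, eq_of_rep perm100_injective fun k => ?_⟩
      have h := List.all_eq_true.1 p_tree 0 (List.mem_range.2 (by norm_num))
      simp only [pTree, show Nat.beq 0 0 = true from rfl, cond_true, List.all_eq_true, List.mem_range, Nat.beq_eq] at h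
      rw [map_one, p_apply]
      exact h k k.2
    | mul_right g hg y hy ih =>
      obtain ⟨s, rfl⟩ := hy
      obtain ⟨j, rfl⟩ := ih
      have h := List.all_eq_true.1 p_closed j (List.mem_range.2 j.2)
      simp only [pClosed, List.all_eq_true, Bool.and_eq_true, Nat.blt_eq, Nat.beq_eq] at h
      obtain ⟨hlt, he⟩ := h s (by fin_cases s <;> simp)
      refine ⟨⟨_, hlt⟩, eq_of_six fun k hk => ?_⟩
      rw [rep_mul_apply, p_apply, p_apply, show pg s = oe (2 + s) from rfl, oe_apply (by omega)]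
      exact he k hk
  · rintro _ ⟨j, rfl⟩
    exact (exists_p j j.2).choose_spec.2

theorem card_subP : Nat.card subP = 512 := by
  have hinj : Function.Injective pEl := fun i j e => by
    have hs : pSig i = pSig j := by
      have hk : ∀ p : Fin 100, pget (pPerm.get i) p = pget (pPerm.get j) p := fun p => by
        rw [← p_apply, ← p_apply, e]
      simp only [pSig, six, List.foldr_cons, List.foldr_nil, hk ⟨0, by norm_num⟩, hk ⟨1, by norm_num⟩,
        hk ⟨2, by norm_num⟩, hk ⟨3, by norm_num⟩, hk ⟨4, by norm_num⟩, hk ⟨5, by norm_num⟩]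
    refine Fin.ext ((p_distinct.getElem_inj_iff (hi := by simp) (hj := by simp)).1 ?_)
    simpa using hs
  rw [← SetLike.coe_sort_coe, Nat.card_coe_set_eq, subP_eq, Set.ncard_range_of_injective hinj, Nat.card_fin]

/-- Subgroups of full prime power order are conjugate. -/
theorem conj_of_card {p n : ℕ} [Fact p.Prime] {A B : Subgroup HG} (hA : Nat.card A = p ^ n) (hB : Nat.card B = p ^ n)
    (h : ¬ p ^ (n + 1) ∣ Nat.card HG) : ∃ g : HG, ∀ a ∈ A, g * a * g⁻¹ ∈ B := by
  have key : ∀ C : Subgroup HG, Nat.card C = p ^ n → ∃ S : Sylow p HG, (S : Subgroup HG) = C := by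
    intro C hC
    obtain ⟨S, hS⟩ := (IsPGroup.of_card hC).exists_le_sylow
    obtain ⟨m, hm⟩ := S.isPGroup'.exists_card_eq
    refine ⟨S, (Subgroup.eq_of_le_of_card_ge hS ?_).symm⟩
    rw [hC, hm]
    refine Nat.pow_le_pow_right (Fact.out : p.Prime).pos ?_
    by_contra hgt
    exact h ((pow_dvd_pow p (by omega : n + 1 ≤ m)).trans (hm ▸ Subgroup.card_subgroup_dvd_card _))
  obtain ⟨SA, rfl⟩ := key A hA
  obtain ⟨SB, rfl⟩ := key B hB
  obtain ⟨g, hg⟩ := MulAction.exists_smul_eq HG SA SB
  refine ⟨g, fun a ha => ?_⟩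
  rw [← hg, Sylow.coe_subgroup_smul, Subgroup.mem_pointwise_smul_iff_inv_smul_mem]
  show (MulAut.conj g)⁻¹ (g * a * g⁻¹) ∈ _
  rw [MulAut.conj_inv_apply, show g⁻¹ * (g * a * g⁻¹) * g = a by group]
  exact ha

/-- An involution is in the class or centralises a conjugate of the subgroup of order nine. -/
theorem involution_cases {i : HG} (h1 : i ≠ 1) (h2 : i * i = 1) : (∃ k, i = tEl k) ∨ CentNine i := by
  obtain ⟨g, j, rfl⟩ : ∃ (g : HG) (j : Fin 512), i = g * pEl j * g⁻¹ := by
    haveI : Fact (Nat.Prime 2) := ⟨Nat.prime_two⟩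
    have hz : IsPGroup 2 (Subgroup.zpowers i) := IsPGroup.of_card (n := 1)
      (by rw [Nat.card_zpowers, orderOf_eq_prime (by rw [pow_two]; exact h2) h1, pow_one])
    obtain ⟨S, hS⟩ := hz.exists_le_sylow
    obtain ⟨m, hm⟩ := S.isPGroup'.exists_card_eq
    obtain ⟨S', hS'⟩ := (IsPGroup.of_card (p := 2) (G := subP) (n := 9) (by rw [card_subP]; norm_num)).exists_le_sylow
    have hS'' : (S' : Subgroup HG) = subP := by
      obtain ⟨m', hm'⟩ := S'.isPGroup'.exists_card_eq
      refine (Subgroup.eq_of_le_of_card_ge hS' ?_).symm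
      rw [card_subP, hm', show 512 = 2 ^ 9 by norm_num]
      refine Nat.pow_le_pow_right two_pos ?_
      by_contra hgt
      exact absurd ((pow_dvd_pow 2 (by omega : 10 ≤ m')).trans (hm' ▸ Subgroup.card_subgroup_dvd_card _))
        (by rw [card_HG]; norm_num)
    obtain ⟨g, hg⟩ := MulAction.exists_smul_eq HG S' S
    have hi : i ∈ (S : Subgroup HG) := hS (Subgroup.mem_zpowers i)
    rw [← hg, Sylow.coe_subgroup_smul, Subgroup.mem_pointwise_smul_iff_inv_smul_mem, hS''] at hi
    have hi' : (MulAut.conj g)⁻¹ i ∈ (subP : Set HG) := hi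
    rw [subP_eq, MulAut.conj_inv_apply] at hi'
    obtain ⟨j, hj⟩ := hi'
    exact ⟨g, j, by rw [hj]; group⟩
  have q1 : pEl j ≠ 1 := fun e => h1 (by rw [e, mul_one, mul_inv_cancel])
  have q2 : pEl j * pEl j = 1 := by
    rw [show g * pEl j * g⁻¹ * (g * pEl j * g⁻¹) = g * (pEl j * pEl j) * g⁻¹ by group, mul_inv_eq_one, mul_eq_left] at h2
    exact h2
  clear h1 h2
  suffices H : (∃ k, pEl j = tEl k) ∨ CentNine (pEl j) by
    rcases H with ⟨k, hk⟩ | H
    · obtain ⟨l, hl⟩ := t_conj_all g k
      exact Or.inl ⟨l, by rw [hk, hl]⟩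
    · exact Or.inr (centNine_conj g H)
  clear g
  induction hr : pRank.get j using Nat.strong_induction_on generalizing j with
  | _ r ih =>
    have h := List.all_eq_true.1 p_kind j (List.mem_range.2 j.2)
    unfold pKindCheck at h
    split at h
    · simp only [Bool.or_eq_true, List.all_eq_true, List.any_eq_true, Nat.beq_eq, Bool.not_eq_true',
        ← Bool.not_eq_true] at h
      rcases h with h | ⟨k, hk, h⟩
      · exact absurd (eq_of_six fun k hk => by rw [p_apply, map_one]; exact h k hk) q1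
      · have hk' : k < 100 := by simp [six] at hk; omega
        refine absurd ?_ h
        have e := congrArg Fin.val (Equiv.congr_fun (congrArg perm100 q2) ⟨k, hk'⟩)
        simp only [map_mul, Equiv.Perm.mul_apply, map_one] at e
        rw [p_apply, p_apply] at e
        exact e
    · simp only [Bool.and_eq_true, Nat.blt_eq, List.all_eq_true, Nat.beq_eq] at h
      exact Or.inl ⟨⟨_, h.1⟩, eq_of_six fun k hk => by rw [p_apply, t_apply]; exact h.2 k hk⟩
    · simp only [Bool.and_eq_true, Nat.blt_eq] at h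
      obtain ⟨hw, h5, h6⟩ := h
      have key : ∀ a, a < 8 → commConj j (pKind.get j).2.1 (upPerm a) = true →
          Commute (pEl j) (oe (5 + (pKind.get j).2.1) * el a * (oe (5 + (pKind.get j).2.1))⁻¹) := by
        intro a ha hc
        simp only [commConj, List.all_eq_true, Nat.beq_eq] at hc
        refine eq_of_six fun k hk => ?_
        simp only [map_mul, Equiv.Perm.mul_apply]
        rw [p_apply, oe_apply (by omega), el_apply ha, rep_witInv hw, oe_apply (by omega), el_apply ha, rep_witInv hw,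
          p_apply]
        exact hc k hk
      exact Or.inr ⟨_, key 5 (by norm_num) h5, key 6 (by norm_num) h6⟩
    · simp only [Bool.and_eq_true, Nat.blt_eq, List.all_eq_true, Nat.beq_eq] at h
      obtain ⟨⟨hv, hs, hlt⟩, he⟩ := h
      set g' := oe (2 + (pKind.get j).2.2) with hg'
      set v : Fin 512 := ⟨(pKind.get j).2.1, hv⟩ with hv'
      have e1 : pEl j = g' * pEl v * g'⁻¹ := by
        rw [eq_mul_inv_iff_mul_eq]
        refine eq_of_six fun k hk => ?_
        rw [rep_mul_apply, rep_mul_apply, p_apply, hg', oe_apply (by omega), oe_apply (by omega), p_apply]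
        exact he k hk
      have v1 : pEl v ≠ 1 := fun e => q1 (by rw [e1, e, mul_one, mul_inv_cancel])
      have v2 : pEl v * pEl v = 1 := by
        rw [e1, show g' * pEl v * g'⁻¹ * (g' * pEl v * g'⁻¹) = g' * (pEl v * pEl v) * g'⁻¹ by group, mul_inv_eq_one,
          mul_eq_left] at q2
        exact q2
      rcases ih _ (hr ▸ hlt) v v1 v2 rfl with ⟨k, hk⟩ | H
      · obtain ⟨l, hl⟩ := t_conj_all g' k
        exact Or.inl ⟨l, by rw [e1, hk, hl]⟩
      · exact Or.inr (e1 ▸ centNine_conj g' H)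

theorem card_nine : Nat.card (Subgroup.closure (Set.range threeX)) = 9 :=
  closed_card rep_three three_closed.1 three_closed.2.1 three_closed.2.2.1 (by norm_num) three_closed.2.2.2

theorem aut_t (α : MulAut HG) (j : Fin 5775) : ∃ k, α (tEl j) = tEl k := by
  have h1 : α (tEl j) ≠ 1 := fun e => t_ne_one j (α.injective (by rw [e, map_one]))
  have h2 : α (tEl j) * α (tEl j) = 1 := by rw [← map_mul, t_sq, map_one]
  refine (involution_cases h1 h2).resolve_right fun ⟨h, h5, h6⟩ => t_not_centNine j ?_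
  haveI : Fact (Nat.Prime 3) := ⟨Nat.prime_three⟩
  set P := Subgroup.closure (Set.range threeX) with hP
  let β : HG →* HG := (α.symm.toMonoidHom).comp (MulAut.conj h).toMonoidHom
  have hβ : Function.Injective β := α.symm.injective.comp (MulAut.conj h).injective
  have hcardβ : Nat.card (P.map β) = 3 ^ 2 := by
    rw [← Nat.card_congr (P.equivMapOfInjective β hβ).toEquiv, card_nine]; norm_num
  obtain ⟨g, hg⟩ := conj_of_card (n := 2) (A := P) (B := P.map β) (by rw [card_nine]; norm_num) hcardβ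
    (by rw [card_HG]; norm_num)
  have hc : ∀ a ∈ P.map β, Commute (tEl j) a := by
    rintro _ ⟨b, hb, rfl⟩
    have hle : P ≤ (Subgroup.centralizer {α (tEl j)}).comap (MulAut.conj h).toMonoidHom := by
      rw [hP, Subgroup.closure_le]
      rintro _ ⟨s, rfl⟩
      show h * threeX s * h⁻¹ ∈ Subgroup.centralizer {α (tEl j)}
      rw [Subgroup.mem_centralizer_singleton_iff]
      cases s
      exacts [h5.symm.eq, h6.symm.eq]
    have hb' := Subgroup.mem_centralizer_singleton_iff.1 (hle hb)
    refine α.injective ?_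
    show α (tEl j * α.symm (h * b * h⁻¹)) = α (α.symm (h * b * h⁻¹) * tEl j)
    rw [α.map_mul, α.map_mul, MulEquiv.apply_symm_apply]
    exact hb'.symm
  exact ⟨g, hc _ (hg _ (Subgroup.subset_closure ⟨false, rfl⟩)), hc _ (hg _ (Subgroup.subset_closure ⟨true, rfl⟩))⟩

/-! ### the pair of generators -/

theorem orbit_facts :
    ((orbitPos.getD 0 0 = yIdx ∧ orbitNeg.getD 0 0 = outIdx) ∧ (yIdx < 5775 ∧ outIdx < 5775)) ∧
    ((∀ i < 10, orbitPos.getD (i + 1) 0 = tNext.get (Cert.edge (orbitPos.getD i 0) false) ∧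
        orbitNeg.getD (i + 1) 0 = tNext.get (Cert.edge (orbitNeg.getD i 0) false)) ∧
      ((orbitPos.length = 11 ∧ orbitNeg.length = 11) ∧ ∀ p ∈ pairRels, ∀ k < 100,
        Cert.evalP certG.g0 (tP yIdx) (List.replicate p.2 p.1).flatten k = k)) := by
  have h := orbit_ok
  simp only [orbitCheck, Bool.and_eq_true, List.all_eq_true, List.mem_range, Nat.beq_eq, Nat.blt_eq] at h
  exact h

/-- The second generator. -/
noncomputable def yPair : Fin 5775 := ⟨yIdx, orbit_facts.1.2.1⟩

/-- The image of the second generator. -/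
noncomputable def outPair : Fin 5775 := ⟨outIdx, orbit_facts.1.2.2⟩

theorem pair_gen : Subgroup.closure ({xG false, tEl yPair} : Set HG) = ⊤ := by
  refine top_le_iff.1 (gen_xG ▸ (Subgroup.closure_le _).2 ?_)
  rintro _ ⟨s, rfl⟩
  cases s
  · exact Subgroup.subset_closure (Set.mem_insert _ _)
  · have hr : Rep perm100 ((slpElt [xG false, tEl yPair] genOps).getD genRoot 1) (genPerms.getD genRoot 0) := by
      refine slp_rep perm100 genOps [xG false, tEl yPair] [certG.g0, tP yIdx] rfl (fun i hi => ?_) ?_ _ ?_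
      · have hi' : i < 2 := by simpa using hi
        interval_cases i
        exacts [rep_xG false, rep_t yPair]
      · exact slpOrdered_spec _ _ prog_facts.2.1
      · exact prog_facts.2.2.1
    have e : xG true = (slpElt [xG false, tEl yPair] genOps).getD genRoot 1 := eq_of_rep perm100_injective fun k => by
      rw [hr k, (point_facts k).2.1.2]
      exact rep_xG true k
    rw [SetLike.mem_coe, e]
    refine slp_mem _ _ _ (fun j => ?_) _
    match j with
    | 0 => exact Subgroup.subset_closure (Set.mem_insert _ _)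
    | 1 => exact Subgroup.subset_closure (Set.mem_insert_of_mem _ rfl)
    | j + 2 => exact one_mem _

theorem aut_ext {α β : MulAut HG} (h1 : α (xG false) = β (xG false)) (h2 : α (tEl yPair) = β (tEl yPair)) : α = β := by
  have : α.toMonoidHom = β.toMonoidHom := MonoidHom.eq_of_eqOn_dense pair_gen (by
    rintro _ (rfl | rfl)
    exacts [h1, h2])
  exact MulEquiv.ext fun x => DFunLike.congr_fun this x

theorem x_eleven : xG false ^ 11 = 1 := pow_xG false

theorem x_order : orderOf (xG false) = 11 := by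
  haveI : Fact (Nat.Prime 11) := ⟨by norm_num⟩
  refine orderOf_eq_prime x_eleven fun e => ?_
  have h : (List.range 100).all (fun k => Nat.beq (pget certG.g0 k) k) = true := by
    rw [List.all_eq_true]
    intro k hk
    rw [Nat.beq_eq]
    have := rep_xG false ⟨k, List.mem_range.1 hk⟩
    rw [e, map_one] at this
    exact this.symm
  exact absurd h (by decide +kernel)

theorem norm_x : oe 1 * xG false * (oe 1)⁻¹ = xG false ^ 4 := by
  rw [mul_inv_eq_iff_eq_mul]
  refine eq_of_rep perm100_injective fun k => ?_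
  simp only [pow_succ, pow_zero, one_mul, map_mul, Equiv.Perm.mul_apply]
  have r : ∀ m : Fin 100, (perm100 (xG false) m : ℕ) = pget certG.g0 m := rep_xG false
  rw [oe_apply (by norm_num), r, r, r, r, r, oe_apply (by norm_num)]
  exact (point_facts k).2.1.1

theorem norm_pow (m : ℕ) (i : ℕ) :
    oe 1 ^ m * xG false ^ i * (oe 1 ^ m)⁻¹ = xG false ^ (i * 4 ^ m) := by
  induction m generalizing i with
  | zero => simp
  | succ m ih =>
    rw [pow_succ, mul_inv_rev, show oe 1 ^ m * oe 1 * xG false ^ i * ((oe 1)⁻¹ * (oe 1 ^ m)⁻¹) =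
      oe 1 ^ m * (oe 1 * xG false ^ i * (oe 1)⁻¹) * (oe 1 ^ m)⁻¹ by group, ← conj_pow, norm_x, ← pow_mul, ih]
    congr 1
    ring

/-- Up to inner automorphisms the first generator goes to itself or its inverse. -/
theorem first_image (α : MulAut HG) : ∃ g, g * α (xG false) * g⁻¹ = xG false ∨ g * α (xG false) * g⁻¹ = (xG false)⁻¹ := by
  haveI : Fact (Nat.Prime 11) := ⟨by norm_num⟩
  have hc : ∀ z : HG, orderOf z = 11 → Nat.card (Subgroup.zpowers z) = 11 ^ 1 := fun z hz => by
    rw [Nat.card_zpowers, hz, pow_one]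
  obtain ⟨g, hg⟩ := conj_of_card (n := 1) (hc (α (xG false)) (by rw [MulEquiv.orderOf_eq, x_order]))
    (hc _ x_order) (by rw [card_HG]; norm_num)
  classical
  obtain ⟨i, hi, e⟩ := (mem_zpowers_iff_mem_range_orderOf.1 (hg _ (Subgroup.mem_zpowers _))) |> Finset.mem_image.1
  rw [x_order, Finset.mem_range] at hi
  have hi0 : i ≠ 0 := by
    rintro rfl
    rw [pow_zero] at e
    have h1 : α (xG false) = 1 := conj_eq_one_iff.1 e.symm
    have := x_order
    rw [← MulEquiv.orderOf_eq α, h1, orderOf_one] at this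
    omega
  obtain ⟨m, hm⟩ : ∃ m : Fin 5, i * 4 ^ (m : ℕ) % 11 = 1 ∨ i * 4 ^ (m : ℕ) % 11 = 10 := by
    clear e
    revert hi0 hi
    revert i
    decide
  refine ⟨oe 1 ^ (m : ℕ) * g, ?_⟩
  rw [show oe 1 ^ (m : ℕ) * g * α (xG false) * (oe 1 ^ (m : ℕ) * g)⁻¹ =
    oe 1 ^ (m : ℕ) * (g * α (xG false) * g⁻¹) * (oe 1 ^ (m : ℕ))⁻¹ by group, ← e, norm_pow,
    pow_eq_pow_mod _ x_eleven]
  rcases hm with hm | hm <;> rw [hm]
  · exact Or.inl (pow_one _)
  · refine Or.inr (eq_inv_of_mul_eq_one_left ?_)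
    rw [← pow_succ]
    exact x_eleven

theorem orbit_conj (l : List ℕ) (y : Fin 5775) (h0 : l.getD 0 0 = y)
    (hstep : ∀ i < 10, l.getD (i + 1) 0 = tNext.get (Cert.edge (l.getD i 0) false)) :
    ∀ i < 11, ∀ k : Fin 5775, (k : ℕ) = l.getD i 0 → tEl k = xG false ^ i * tEl y * (xG false ^ i)⁻¹ := by
  intro i
  induction i with
  | zero =>
    intro _ k hk
    rw [h0] at hk
    rw [Fin.ext hk]
    simp
  | succ i ih =>
    intro hi k hk
    rw [hstep i (by omega)] at hk
    have hl : l.getD i 0 < 5775 := by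
      have key : ∀ i < 11, l.getD i 0 < 5775 := by
        intro i
        induction i with
        | zero => intro _; rw [h0]; exact y.2
        | succ i ih2 =>
          intro hi
          have h := List.all_eq_true.1 t_closed _ (List.mem_range.2 (ih2 (by omega)))
          simp only [tClosed, List.all_cons, Bool.and_eq_true, Nat.blt_eq] at h
          rw [hstep i (by omega)]
          exact h.1.1
      exact key i (by omega)
    obtain ⟨k', hk', e⟩ := t_conj false ⟨_, hl⟩
    rw [show k = k' from Fin.ext (hk.trans hk'.symm), ← e, ih (by omega) ⟨_, hl⟩ rfl, pow_succ']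
    group

theorem second_image (α : MulAut HG) :
    (α (xG false) = xG false → ∃ i, α (tEl yPair) = xG false ^ i * tEl yPair * (xG false ^ i)⁻¹) ∧
    (α (xG false) = (xG false)⁻¹ → ∃ i, α (tEl yPair) = xG false ^ i * tEl outPair * (xG false ^ i)⁻¹) := by
  obtain ⟨c, hc⟩ := aut_t α yPair
  obtain ⟨⟨⟨hy0, ho0⟩, -⟩, hstep, ⟨hlp, hln⟩, hrel⟩ := orbit_facts
  have h := List.all_eq_true.1 t_cand c (List.mem_range.2 c.2)
  simp only [candCheck, Bool.and_eq_true, Bool.or_eq_true] at h
  have fail : ∀ (z : HG) (p : ℕ), Rep perm100 z p → α (xG false) = z → relFails p (tP c) = true → False := by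
    intro z p hz he hf
    simp only [relFails, List.any_eq_true, Bool.not_eq_true', ← Bool.not_eq_true, Nat.beq_eq] at hf
    obtain ⟨r, hr, k, hk, hne⟩ := hf
    have hk' : k < 100 := by simp [six] at hk; omega
    refine hne ?_
    have e1 : ev (fun s => bif s then tEl yPair else xG false) (List.replicate r.2 r.1).flatten = 1 :=
      eq_of_rep perm100_injective fun m => by
        rw [rep_ev (a := certG.g0) (b := tP yIdx) (fun s => by cases s; exacts [rep_xG false, rep_t yPair]),
          hrel r hr m m.2, map_one]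
        rfl
    have e2 := congrArg α e1
    rw [← MulEquiv.coe_toMonoidHom, map_ev, map_one] at e2
    have e3 : (fun s => α.toMonoidHom (bif s then tEl yPair else xG false)) = fun s => bif s then tEl c else z := by
      funext s
      cases s
      exacts [he, hc]
    rw [e3] at e2
    have := rep_ev (φ := perm100) (a := p) (b := tP c) (g := fun s => bif s then tEl c else z)
      (fun s => by cases s; exacts [hz, rep_t c]) (List.replicate r.2 r.1).flatten ⟨k, hk'⟩
    rw [e2, map_one] at this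
    exact this.symm
  constructor
  · intro he
    have hm : (c : ℕ) ∈ orbitPos := List.elem_iff.1 (h.1.resolve_right fun hf => fail _ _ (rep_xG false) he hf)
    obtain ⟨i, hi, e⟩ := List.getElem_of_mem hm
    refine ⟨i, hc.trans (orbit_conj orbitPos yPair hy0 (fun i hi => (hstep i hi).1) i (hlp ▸ hi) c ?_)⟩
    rw [List.getD_eq_getElem _ _ hi, e]
  · intro he
    have hm : (c : ℕ) ∈ orbitNeg := List.elem_iff.1 (h.2.resolve_right fun hf => fail _ _ (rep_gXi false) he hf)
    obtain ⟨i, hi, e⟩ := List.getElem_of_mem hm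
    refine ⟨i, hc.trans (orbit_conj orbitNeg outPair ho0 (fun i hi => (hstep i hi).2) i (hln ▸ hi) c ?_)⟩
    rw [List.getD_eq_getElem _ _ hi, e]

theorem aut_cases (θ : MulAut HG) (hx : θ (xG false) = (xG false)⁻¹) (hy : θ (tEl yPair) = tEl outPair)
    (α : MulAut HG) : ∃ g : HG, MulAut.conj g * α = 1 ∨ MulAut.conj g * α = θ := by
  obtain ⟨g, hg⟩ := first_image α
  set β := MulAut.conj g * α with hβ
  have hb : ∀ z, β z = g * α z * g⁻¹ := fun z => rfl
  have hcomm : ∀ i : ℕ, ∀ z : HG, (z = xG false ∨ z = (xG false)⁻¹) →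
      (xG false ^ i)⁻¹ * z * xG false ^ i = z := by
    intro i z hz
    rcases hz with rfl | rfl <;> group
  rcases hg with hg | hg
  · obtain ⟨i, hi⟩ := (second_image β).1 ((hb _).trans hg)
    refine ⟨(xG false ^ i)⁻¹ * g, Or.inl (aut_ext ?_ ?_)⟩
    · show (xG false ^ i)⁻¹ * g * α (xG false) * ((xG false ^ i)⁻¹ * g)⁻¹ = xG false
      rw [show (xG false ^ i)⁻¹ * g * α (xG false) * ((xG false ^ i)⁻¹ * g)⁻¹ =
        (xG false ^ i)⁻¹ * (g * α (xG false) * g⁻¹) * xG false ^ i by group, hg, hcomm i _ (Or.inl rfl)]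
    · show (xG false ^ i)⁻¹ * g * α (tEl yPair) * ((xG false ^ i)⁻¹ * g)⁻¹ = tEl yPair
      rw [show (xG false ^ i)⁻¹ * g * α (tEl yPair) * ((xG false ^ i)⁻¹ * g)⁻¹ =
        (xG false ^ i)⁻¹ * (g * α (tEl yPair) * g⁻¹) * xG false ^ i by group, ← hb, hi]
      group
  · obtain ⟨i, hi⟩ := (second_image β).2 ((hb _).trans hg)
    refine ⟨(xG false ^ i)⁻¹ * g, Or.inr (aut_ext ?_ ?_)⟩
    · rw [hx]
      show (xG false ^ i)⁻¹ * g * α (xG false) * ((xG false ^ i)⁻¹ * g)⁻¹ = (xG false)⁻¹
      rw [show (xG false ^ i)⁻¹ * g * α (xG false) * ((xG false ^ i)⁻¹ * g)⁻¹ =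
        (xG false ^ i)⁻¹ * (g * α (xG false) * g⁻¹) * xG false ^ i by group, hg, hcomm i _ (Or.inr rfl)]
    · rw [hy]
      show (xG false ^ i)⁻¹ * g * α (tEl yPair) * ((xG false ^ i)⁻¹ * g)⁻¹ = tEl outPair
      rw [show (xG false ^ i)⁻¹ * g * α (tEl yPair) * ((xG false ^ i)⁻¹ * g)⁻¹ =
        (xG false ^ i)⁻¹ * (g * α (tEl yPair) * g⁻¹) * xG false ^ i by group, ← hb, hi]
      group

/-! ### the outer automorphism -/

theorem sigma_facts (k : Fin 100) :
    ((outSigma.getD k 0 < 100 ∧ outSigmaInv.getD k 0 < 100) ∧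
      (outSigma.getD (outSigmaInv.getD k 0) 0 = k ∧ outSigmaInv.getD (outSigma.getD k 0) 0 = k)) ∧
    (outSigma.getD (pget certG.g0 k) 0 = pget (gXi false) (outSigma.getD k 0) ∧
      outSigma.getD (pget (tP yIdx) k) 0 = pget (tP outIdx) (outSigma.getD k 0)) := by
  have h := List.all_eq_true.1 sigma_point_ok k (List.mem_range.2 k.2)
  simp only [sigmaPointCheck, Bool.and_eq_true, Nat.blt_eq, Nat.beq_eq] at h
  exact h

/-- The outer permutation. -/
def sigmaPerm : Equiv.Perm (Fin 100) where
  toFun k := ⟨outSigma.getD k 0, (sigma_facts k).1.1.1⟩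
  invFun k := ⟨outSigmaInv.getD k 0, (sigma_facts k).1.1.2⟩
  left_inv k := Fin.ext (sigma_facts k).1.2.2
  right_inv k := Fin.ext (sigma_facts k).1.2.1

theorem sigma_sign : Equiv.Perm.sign sigmaPerm = -1 := by decide +kernel

theorem sigma_conj :
    sigmaPerm * perm100 (xG false) = perm100 (xG false)⁻¹ * sigmaPerm ∧
    sigmaPerm * perm100 (tEl yPair) = perm100 (tEl outPair) * sigmaPerm := by
  constructor <;> refine Equiv.ext fun k => Fin.ext ?_
  · rw [Equiv.Perm.mul_apply, Equiv.Perm.mul_apply, rep_gXi false]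
    show outSigma.getD (perm100 (xG false) k : ℕ) 0 = _
    rw [rep_xG false k]
    exact (sigma_facts k).2.1
  · rw [Equiv.Perm.mul_apply, Equiv.Perm.mul_apply, t_apply]
    show outSigma.getD (perm100 (tEl yPair) k : ℕ) 0 = _
    rw [t_apply]
    exact (sigma_facts k).2.2

theorem exists_outer : ∃ θ : MulAut HG, (θ (xG false) = (xG false)⁻¹ ∧ θ (tEl yPair) = tEl outPair) ∧
    θ ∉ Cfsg.Inn HG := by
  let c : HG →* Equiv.Perm (Fin 100) := (MulAut.conj sigmaPerm).toMonoidHom.comp perm100
  have h1 : c (xG false) = perm100 (xG false)⁻¹ := by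
    show sigmaPerm * perm100 (xG false) * sigmaPerm⁻¹ = _
    rw [sigma_conj.1, mul_inv_cancel_right]
  have h2 : c (tEl yPair) = perm100 (tEl outPair) := by
    show sigmaPerm * perm100 (tEl yPair) * sigmaPerm⁻¹ = _
    rw [sigma_conj.2, mul_inv_cancel_right]
  have hc : ∀ x, c x ∈ perm100.range := by
    intro x
    have hx : x ∈ perm100.range.comap c := by
      refine (Subgroup.closure_le _).2 ?_ (pair_gen.ge (Subgroup.mem_top x))
      rintro _ (rfl | rfl)
      exacts [⟨_, h1.symm⟩, ⟨_, h2.symm⟩]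
    exact hx
  let b : HG →* HG := (MonoidHom.ofInjective perm100_injective).symm.toMonoidHom.comp (c.codRestrict perm100.range hc)
  have hb : ∀ x, perm100 (b x) = c x := fun x =>
    congrArg Subtype.val ((MonoidHom.ofInjective perm100_injective).apply_symm_apply ⟨c x, hc x⟩)
  have hinj : Function.Injective b := fun x y e => by
    have h := congrArg perm100 e
    rw [hb, hb] at h
    exact perm100_injective ((MulAut.conj sigmaPerm).injective h)
  refine ⟨MulEquiv.ofBijective b (Finite.injective_iff_bijective.1 hinj),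
    ⟨perm100_injective ((hb _).trans h1), perm100_injective ((hb _).trans h2)⟩, ?_⟩
  rintro ⟨g, hg⟩
  have hgx : ∀ z, perm100 (g * z * g⁻¹) = sigmaPerm * perm100 z * sigmaPerm⁻¹ := fun z => by
    have := DFunLike.congr_fun hg z
    rw [show g * z * g⁻¹ = b z from this]
    exact hb z
  obtain ⟨q, hq⟩ : ∃ q, q = sigmaPerm⁻¹ * perm100 g := ⟨_, rfl⟩
  have hqc : ∀ z, q * perm100 z = perm100 z * q := fun z => by
    have e := hgx z
    rw [map_mul, map_mul, map_inv, mul_inv_eq_iff_eq_mul] at e
    rw [hq, mul_assoc, e]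
    group
  have hfix : q ⟨0, by norm_num⟩ = ⟨0, by norm_num⟩ := by
    obtain ⟨z, hz⟩ : ∃ z, z = q ⟨0, by norm_num⟩ := ⟨_, rfl⟩
    rw [← hz]
    have h := List.all_eq_true.1 stab_moves z (List.mem_range.2 z.2)
    simp only [stabMoves, Bool.or_eq_true, Nat.beq_eq, List.any_eq_true, Bool.not_eq_true', ← Bool.not_eq_true] at h
    rcases h with h | ⟨r, hr, hne⟩
    · exact Fin.ext h
    · exfalso
      obtain ⟨hlt, h0⟩ : r < 3 + chainOps.length ∧ pget (chainPerms.getD r 0) 0 = 0 := by
        have l1 := level1_ok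
        have l2 := level2_ok
        have l3 := level3_ok
        simp only [levelCheck, Bool.and_eq_true, List.all_eq_true, Nat.blt_eq, Nat.beq_eq] at l1 l2 l3
        simp only [List.mem_append] at hr
        rcases hr with (hr | hr) | hr
        · exact ⟨(l1.1 r hr).1, (l1.1 r hr).2 0 (by simp)⟩
        · exact ⟨(l2.1 r hr).1, (l2.1 r hr).2 0 (by simp)⟩
        · exact ⟨(l3.1 r hr).1, (l3.1 r hr).2 0 (by simp)⟩
      refine hne ?_
      have e := Equiv.congr_fun (hqc (chEl r)) ⟨0, by norm_num⟩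
      rw [Equiv.Perm.mul_apply, Equiv.Perm.mul_apply, show perm100 (chEl r) ⟨0, by norm_num⟩ = ⟨0, by norm_num⟩ from
        Fin.ext ((rep_chEl hlt _).trans h0), ← hz] at e
      have e' := congrArg Fin.val e.symm
      rwa [rep_chEl hlt z] at e'
  have hq1 : q = 1 := by
    refine Equiv.ext fun k => ?_
    have h0 := level0_ok
    simp only [levelCheck, Bool.and_eq_true, List.all_eq_true, Nat.blt_eq, decide_eq_true_eq] at h0
    have hinj' : Function.Injective fun i : Fin chain0.length => perm100 (chEl chain0[i]) (⟨0, by norm_num⟩ : Fin 100) := by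
      intro i j e
      have e' : ((perm100 (chEl (chain0[(i : ℕ)]'i.2)) ⟨0, by norm_num⟩ : Fin 100) : ℕ) =
          perm100 (chEl (chain0[(j : ℕ)]'j.2)) (⟨0, by norm_num⟩ : Fin 100) := congrArg Fin.val e
      rw [rep_chEl (h0.1 _ (List.getElem_mem i.2)).1 _, rep_chEl (h0.1 _ (List.getElem_mem j.2)).1 _] at e'
      exact Fin.ext ((h0.2.getElem_inj_iff (hi := by simpa using i.2) (hj := by simpa using j.2)).1 (by simpa using e'))
    obtain ⟨i, hi⟩ := (hinj'.bijective_of_nat_card_le (by simp [show chain0.length = 100 from rfl])).2 k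
    simp only at hi
    rw [← hi, ← Equiv.Perm.mul_apply, hqc, Equiv.Perm.mul_apply, hfix]
    rfl
  have hπ : sigmaPerm = perm100 g := by rw [← inv_mul_eq_one, ← hq, hq1]
  have hsign : Equiv.Perm.sign (perm100 g) = 1 := by
    haveI : IsSimpleGroup HG := Cfsg.Agent.Spor.hs_ref.2
    rcases (Equiv.Perm.sign.comp perm100).normal_ker.eq_bot_or_eq_top with hbot | htop
    · have hcard := Nat.card_le_card_of_injective _ ((MonoidHom.ker_eq_bot_iff _).1 hbot)
      rw [card_HG, Nat.card_eq_fintype_card, Fintype.card_units_int] at hcard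
      omega
    · have hm : g ∈ (Equiv.Perm.sign.comp perm100).ker := htop.ge (Subgroup.mem_top g)
      exact hm
  rw [← hπ, sigma_sign] at hsign
  exact absurd hsign (by decide)

theorem card_out_HG : Nat.card (Cfsg.Out HG) = 2 := by
  obtain ⟨θ, ⟨hx, hy⟩, hne⟩ := exists_outer
  show Nat.card (MulAut HG ⧸ Cfsg.Inn HG) = 2
  rw [← Subgroup.index_eq_card, Subgroup.index_eq_two_iff]
  refine ⟨θ⁻¹, fun α => ?_⟩
  have hI : ∀ g : HG, MulAut.conj g ∈ Cfsg.Inn HG := fun g => ⟨g, rfl⟩
  obtain ⟨g, h | h⟩ := aut_cases θ hx hy α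
  · have hα : α ∈ Cfsg.Inn HG := by rw [eq_inv_of_mul_eq_one_right h]; exact inv_mem (hI g)
    refine Or.inr ⟨hα, fun hm => hne ?_⟩
    exact inv_mem_iff.1 ((Subgroup.mul_mem_cancel_left _ hα).1 hm)
  · have hα : α * θ⁻¹ = (MulAut.conj g)⁻¹ := by rw [← h]; group
    refine Or.inl ⟨hα ▸ inv_mem (hI g), fun hm => hne ?_⟩
    have := mul_mem (inv_mem (hα ▸ inv_mem (hI g) : α * θ⁻¹ ∈ Cfsg.Inn HG)) hm
    rwa [show (α * θ⁻¹)⁻¹ * α = θ by group] at this

/-- The outer automorphism group of the Higman–Sims group has order two. -/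
theorem card_out : Nat.card (Cfsg.Out ↥Cfsg.Spor.HS) = 2 := by
  obtain ⟨e⟩ := hs_iso
  rw [← card_out_HG]
  refine Nat.card_congr (QuotientGroup.congr _ _ (MulAut.congr e) ?_).toEquiv
  refine Subgroup.ext fun β => ⟨?_, ?_⟩
  · rintro ⟨_, ⟨g, rfl⟩, rfl⟩
    exact ⟨e g, MulEquiv.ext fun x => by simp [MulAut.congr]⟩
  · rintro ⟨g, rfl⟩
    exact ⟨_, ⟨e.symm g, rfl⟩, MulEquiv.ext fun x => by simp [MulAut.congr]⟩

end Cfsg.Agent.Lie.HigmanSimsOut
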